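import Mathlib.RingTheory.AdicCompletion.Completeness
import Mathlib.RingTheory.AdicCompletion.RingHom
import Mathlib.RingTheory.MvPolynomial.Basic
import Mathlib.RingTheory.Ideal.Quotient.Operations

/-!
# Affine dilatation in the p-adic setting
-/

set_option autoImplicit false

universe u

open scoped Pointwise

namespace Groth.Agent.Dilat

theorem factor_evalₐ {R : Type u} [CommRing R] {I : Ideal R} {m n : ℕ} (h : m ≤ n) (x : AdicCompletion I R) :
    Ideal.Quotient.factorPow I h (AdicCompletion.evalₐ I n x) = AdicCompletion.evalₐ I m x := by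
  induction x using AdicCompletion.induction_on with
  | _ s =>
    rw [AdicCompletion.evalₐ_mk, AdicCompletion.evalₐ_mk, Ideal.Quotient.factor_mk, Ideal.Quotient.eq]
    have := s.2 h
    rw [SModEq.sub_mem, smul_eq_mul, Ideal.mul_top] at this
    rw [← neg_sub]
    exact neg_mem this

variable (A : Type u) [CommRing A] (t : A) {n : ℕ} (a : Fin n → A)

/-- Elements killed by a power of `t` modulo the relations `t X i = a i`. -/
noncomputable def satIdeal : Ideal (MvPolynomial (Fin n) A) where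
  carrier := {c | ∃ k : ℕ, MvPolynomial.C t ^ k * c ∈ Ideal.span (Set.range fun i => MvPolynomial.C t * MvPolynomial.X i - MvPolynomial.C (a i))}
  add_mem' := by
    rintro x y ⟨k, hk⟩ ⟨l, hl⟩
    refine ⟨k + l, ?_⟩
    rw [mul_add, pow_add]
    refine Ideal.add_mem _ ?_ ?_
    · rw [mul_comm (MvPolynomial.C t ^ k), mul_assoc]; exact Ideal.mul_mem_left _ _ hk
    · rw [mul_assoc]; exact Ideal.mul_mem_left _ _ hl
  zero_mem' := ⟨0, by simp⟩
  smul_mem' := by
    rintro r x ⟨k, hk⟩
    exact ⟨k, by rw [smul_eq_mul, mul_left_comm]; exact Ideal.mul_mem_left _ _ hk⟩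

/-- The algebraic dilatation. -/
abbrev Alg : Type u := MvPolynomial (Fin n) A ⧸ satIdeal A t a

theorem alg_regular : IsSMulRegular (Alg A t a) (algebraMap A (Alg A t a) t) := by
  intro x y h
  obtain ⟨x, rfl⟩ := Ideal.Quotient.mk_surjective x
  obtain ⟨y, rfl⟩ := Ideal.Quotient.mk_surjective y
  have h : Ideal.Quotient.mk (satIdeal A t a) (MvPolynomial.C t * x) = Ideal.Quotient.mk (satIdeal A t a) (MvPolynomial.C t * y) := h
  rw [Ideal.Quotient.eq] at h ⊢
  obtain ⟨k, hk⟩ := h
  exact ⟨k + 1, by rw [pow_succ, mul_assoc, mul_sub]; exact hk⟩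

theorem alg_div (i : Fin n) : algebraMap A (Alg A t a) (a i) =
    algebraMap A (Alg A t a) t * Ideal.Quotient.mk _ (MvPolynomial.X i) := by
  show Ideal.Quotient.mk (satIdeal A t a) (MvPolynomial.C (a i)) = Ideal.Quotient.mk (satIdeal A t a) (MvPolynomial.C t * MvPolynomial.X i)
  refine (Ideal.Quotient.eq.2 (show _ ∈ satIdeal A t a from ⟨0, ?_⟩)).symm
  rw [pow_zero, one_mul]
  exact Ideal.subset_span ⟨i, rfl⟩

theorem alg_lift (B : Type u) [CommRing B] [Algebra A B] (hB : IsSMulRegular B (algebraMap A B t))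
    (ha : ∀ i, algebraMap A B (a i) ∈ Ideal.span {algebraMap A B t}) : Nonempty (Alg A t a →ₐ[A] B) := by
  choose b hb using fun i => Ideal.mem_span_singleton'.1 (ha i)
  refine ⟨Ideal.Quotient.liftₐ _ (MvPolynomial.aeval b) fun c ⟨k, hk⟩ => ?_⟩
  have h0 : MvPolynomial.aeval b (MvPolynomial.C t ^ k * c) = 0 := by
    have hle : Ideal.span (Set.range fun i => MvPolynomial.C t * MvPolynomial.X i - MvPolynomial.C (a i)) ≤
        RingHom.ker (MvPolynomial.aeval (R := A) b) := by
      rw [Ideal.span_le]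
      rintro _ ⟨i, rfl⟩
      rw [SetLike.mem_coe, RingHom.mem_ker, map_sub, map_mul, MvPolynomial.aeval_C, MvPolynomial.aeval_X, MvPolynomial.aeval_C, mul_comm, hb, sub_self]
    exact hle hk
  rw [map_mul, map_pow, MvPolynomial.aeval_C] at h0
  exact hB.pow k (show _ * _ = _ * (0 : B) by rw [mul_zero, h0])

theorem alg_ext {B : Type u} [CommRing B] [Algebra A B] (hB : IsSMulRegular B (algebraMap A B t))
    (f g : Alg A t a →ₐ[A] B) : f = g := by
  refine Ideal.Quotient.algHom_ext A (MvPolynomial.algHom_ext fun i => hB ?_)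
  show algebraMap A B t * f (Ideal.Quotient.mk _ (MvPolynomial.X i)) = algebraMap A B t * g (Ideal.Quotient.mk _ (MvPolynomial.X i))
  rw [← f.commutes t, ← map_mul, ← alg_div, f.commutes]
  rw [← g.commutes (a i), alg_div, map_mul, g.commutes, f.commutes]

variable (p : ℕ)

/-- The completed dilatation. -/
abbrev Cpl : Type u := AdicCompletion (Ideal.span {(p : Alg A (p : A) a)}) (Alg A (p : A) a)

theorem cpl_complete : IsAdicComplete (Ideal.span {(p : Cpl A a p)}) (Cpl A a p) := by
  have h := AdicCompletion.isAdicComplete (I := Ideal.span {(p : Alg A (p : A) a)}) (M := Alg A (p : A) a) ⟨{(p : Alg A (p : A) a)}, by simp⟩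
  have hmap : (Ideal.span {(p : Alg A (p : A) a)}).map (algebraMap _ (Cpl A a p)) = Ideal.span {(p : Cpl A a p)} := by
    rw [Ideal.map_span, Set.image_singleton, map_natCast]
  rw [← hmap]
  haveI : IsHausdorff ((Ideal.span {(p : Alg A (p : A) a)}).map (algebraMap _ (Cpl A a p))) (Cpl A a p) :=
    IsHausdorff.map_algebraMap_iff.2 h.toIsHausdorff
  haveI : IsPrecomplete ((Ideal.span {(p : Alg A (p : A) a)}).map (algebraMap _ (Cpl A a p))) (Cpl A a p) :=
    IsPrecomplete.map_algebraMap_iff.2 h.toIsPrecomplete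
  exact {}

theorem cpl_regular : IsSMulRegular (Cpl A a p) (p : Cpl A a p) := by
  intro x y h
  have h : (p : Cpl A a p) * x = (p : Cpl A a p) * y := h
  rw [← sub_eq_zero]
  have hz : (p : Cpl A a p) * (x - y) = 0 := by rw [mul_sub, h, sub_self]
  generalize x - y = z at hz
  refine AdicCompletion.ext_evalₐ fun m => ?_
  obtain ⟨c, hc⟩ := Ideal.Quotient.mk_surjective (AdicCompletion.evalₐ _ (m + 1) z)
  have h1 := congrArg (AdicCompletion.evalₐ (Ideal.span {(p : Alg A (p : A) a)}) (m + 1)) hz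
  rw [map_mul, map_natCast, map_zero, ← hc, ← map_natCast (Ideal.Quotient.mk (Ideal.span {(p : Alg A (p : A) a)} ^ (m + 1))) p, ← map_mul,
    Ideal.Quotient.eq_zero_iff_mem, Ideal.span_singleton_pow, Ideal.mem_span_singleton'] at h1
  obtain ⟨w, hw⟩ := h1
  have hcw : c = w * (p : Alg A (p : A) a) ^ m := by
    refine alg_regular A (p : A) a ?_
    show algebraMap A _ (p : A) * c = algebraMap A _ (p : A) * _
    rw [map_natCast, ← hw]; ring
  have h2 : AdicCompletion.evalₐ (Ideal.span {(p : Alg A (p : A) a)}) m z =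
      Ideal.Quotient.factorPow _ (Nat.le_succ m) (AdicCompletion.evalₐ _ (m + 1) z) :=
    (factor_evalₐ (Nat.le_succ m) z).symm
  rw [h2, ← hc, map_zero, Ideal.Quotient.factor_mk, Ideal.Quotient.eq_zero_iff_mem, Ideal.span_singleton_pow, hcw]
  exact Ideal.mul_mem_left _ _ (Ideal.mem_span_singleton_self _)

theorem cpl_lift (B : Type u) [CommRing B] [Algebra A B] [IsAdicComplete (Ideal.span {(p : B)}) B]
    (hB : IsSMulRegular B (p : B)) (ha : ∀ i, algebraMap A B (a i) ∈ Ideal.span {(p : B)}) :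
    Nonempty (Cpl A a p →ₐ[A] B) := by
  obtain ⟨h⟩ := alg_lift A (p : A) a B (by rwa [map_natCast]) (fun i => by rw [map_natCast]; exact ha i)
  have hle : ∀ m, Ideal.span {(p : Alg A (p : A) a)} ^ m ≤ RingHom.ker ((Ideal.Quotient.mkₐ A (Ideal.span {(p : B)} ^ m)).comp h) := by
    intro m
    rw [Ideal.span_singleton_pow, Ideal.span_singleton_pow, Ideal.span_le, Set.singleton_subset_iff, SetLike.mem_coe,
      RingHom.mem_ker, AlgHom.comp_apply, map_pow, map_natCast, Ideal.Quotient.mkₐ_eq_mk, Ideal.Quotient.eq_zero_iff_mem]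
    exact Ideal.mem_span_singleton_self _
  refine ⟨IsAdicComplete.liftAlgHom (Ideal.span {(p : B)})
    (fun m => (Ideal.Quotient.liftₐ _ ((Ideal.Quotient.mkₐ A (Ideal.span {(p : B)} ^ m)).comp h) (fun c hc => hle m hc)).comp
      ((AdicCompletion.evalₐ (Ideal.span {(p : Alg A (p : A) a)}) m).restrictScalars A)) ?_⟩
  intro k m hkm
  ext x
  obtain ⟨c, hc⟩ := Ideal.Quotient.mk_surjective (AdicCompletion.evalₐ (Ideal.span {(p : Alg A (p : A) a)}) m x)
  have hk : AdicCompletion.evalₐ (Ideal.span {(p : Alg A (p : A) a)}) k x = Ideal.Quotient.mk _ c := by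
    rw [← factor_evalₐ hkm, ← hc, Ideal.Quotient.factor_mk]
  simp only [AlgHom.comp_apply, AlgHom.restrictScalars_apply, ← hc, hk]
  rfl

theorem cpl_ext (B : Type u) [CommRing B] [Algebra A B] [IsAdicComplete (Ideal.span {(p : B)}) B]
    (hB : IsSMulRegular B (p : B)) (f g : Cpl A a p →ₐ[A] B) : f = g := by
  refine IsAdicComplete.algHom_ext (Ideal.span {(p : B)}) fun m => AlgHom.ext fun x => ?_
  obtain ⟨c, hc⟩ := Ideal.Quotient.mk_surjective (AdicCompletion.evalₐ (Ideal.span {(p : Alg A (p : A) a)}) m x)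
  have hker : x - algebraMap _ (Cpl A a p) c ∈
      (Ideal.span {(p : Alg A (p : A) a)} ^ m • ⊤ : Submodule (Alg A (p : A) a) (Cpl A a p)) := by
    rw [AdicCompletion.pow_smul_top_eq_ker_eval ⟨{(p : Alg A (p : A) a)}, by simp⟩, LinearMap.mem_ker]
    have h0 : AdicCompletion.evalₐ (Ideal.span {(p : Alg A (p : A) a)}) m (x - algebraMap _ (Cpl A a p) c) = 0 := by
      rw [map_sub, AlgHom.commutes, ← hc]
      exact sub_self _
    exact (Ideal.quotientEquivAlgOfEq (Alg A (p : A) a) (by ext; simp)).injective (h0.trans (map_zero _).symm)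
  rw [Ideal.span_singleton_pow, Submodule.ideal_span_singleton_smul, Submodule.mem_smul_pointwise_iff_exists] at hker
  obtain ⟨y, -, hy⟩ := hker
  have hx : x = algebraMap _ (Cpl A a p) c + (p : Cpl A a p) ^ m * y := by
    rw [← sub_eq_iff_eq_add', ← hy, ← algebraMap_smul (Cpl A a p), smul_eq_mul, map_pow, map_natCast]
  have hcomp : f.comp (IsScalarTower.toAlgHom A _ _) = g.comp (IsScalarTower.toAlgHom A (Alg A (p : A) a) (Cpl A a p)) :=
    alg_ext A (p : A) a (by rwa [map_natCast]) _ _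
  have hfg : f (algebraMap _ (Cpl A a p) c) = g (algebraMap _ (Cpl A a p) c) := AlgHom.congr_fun hcomp c
  show Ideal.Quotient.mk _ (f x) = Ideal.Quotient.mk _ (g x)
  rw [Ideal.Quotient.eq, hx, map_add, map_add, map_mul, map_mul, map_pow, map_pow, map_natCast, map_natCast, hfg,
    add_sub_add_left_eq_sub, Ideal.span_singleton_pow, ← mul_sub]
  exact Ideal.mem_span_singleton'.2 ⟨_, mul_comm _ _⟩

end Groth.Agent.Dilat
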